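import Mathlib

set_option autoImplicit false
set_option linter.unusedSectionVars false
set_option linter.unusedVariables false
set_option linter.unusedSimpArgs false
set_option linter.style.haveILetI false
set_option maxHeartbeats 400000

/-!
# Expansion of `(f D)^n` when `D b = b D + δ b`
-/

namespace Groth.Agent.Lib.Helper6.PCurv

variable {B : Type*} [CommRing B] {R : Type*} [Ring R]

/-- the coefficients `c n k` with `(f D)^n = ∑ c n k D^k` -/
def coef (δ : B →+ B) (f : B) : ℕ → ℕ → B
  | 0, 0 => 1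
  | 0, _ + 1 => 0
  | n + 1, 0 => f * δ (coef δ f n 0)
  | n + 1, k + 1 => f * δ (coef δ f n (k + 1)) + f * coef δ f n k

@[simp] lemma coef_zero_zero (δ : B →+ B) (f : B) : coef δ f 0 0 = 1 := by
  simp [coef]

@[simp] lemma coef_zero_succ (δ : B →+ B) (f : B) (k : ℕ) : coef δ f 0 (k + 1) = 0 := by
  simp [coef]

lemma coef_succ_zero (δ : B →+ B) (f : B) (n : ℕ) :
    coef δ f (n + 1) 0 = f * δ (coef δ f n 0) := by
  simp [coef]

lemma coef_succ_succ (δ : B →+ B) (f : B) (n k : ℕ) :
    coef δ f (n + 1) (k + 1) = f * δ (coef δ f n (k + 1)) + f * coef δ f n k := by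
  simp [coef]

lemma coef_eq_zero_of_lt (δ : B →+ B) (f : B) : ∀ n k : ℕ, n < k → coef δ f n k = 0 := by
  intro n
  induction n with
  | zero =>
    intro k hk
    obtain ⟨k, rfl⟩ := Nat.exists_eq_succ_of_ne_zero (Nat.pos_iff_ne_zero.mp hk)
    simp
  | succ n ih =>
    intro k hk
    obtain ⟨k, rfl⟩ := Nat.exists_eq_succ_of_ne_zero (Nat.pos_iff_ne_zero.mp (by omega : 0 < k))
    rw [coef_succ_succ, ih (k + 1) (by omega), ih k (by omega)]
    simp

lemma coef_self (δ : B →+ B) (f : B) : ∀ n : ℕ, coef δ f n n = f ^ n := by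
  intro n
  induction n with
  | zero => simp
  | succ n ih =>
    rw [coef_succ_succ, coef_eq_zero_of_lt δ f n (n + 1) (by omega), ih]
    simp [pow_succ']

lemma coef_zero_right (δ : B →+ B) (f : B) (h1 : δ 1 = 0) :
    ∀ n : ℕ, 0 < n → coef δ f n 0 = 0 := by
  intro n
  induction n with
  | zero => intro h; omega
  | succ n ih =>
    intro _
    rw [coef_succ_zero]
    rcases Nat.eq_zero_or_pos n with rfl | hn
    · simp [h1]
    · rw [ih hn]; simp

/-- the expansion -/
theorem expansion (ι : B →+* R) (δ : B →+ B) (f : B) (D : R)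
    (hD : ∀ b, D * ι b = ι b * D + ι (δ b)) (n : ℕ) :
    (ι f * D) ^ n = ∑ k ∈ Finset.range (n + 1), ι (coef δ f n k) * D ^ k := by
  induction n with
  | zero => simp
  | succ n ih =>
    rw [pow_succ', ih, Finset.mul_sum]
    have h1 : ∀ k ∈ Finset.range (n + 1), ι f * D * (ι (coef δ f n k) * D ^ k) =
        ι (f * coef δ f n k) * D ^ (k + 1) + ι (f * δ (coef δ f n k)) * D ^ k := by
      intro k _
      rw [mul_assoc, ← mul_assoc D, hD, add_mul, mul_add, map_mul, map_mul, pow_succ']
      simp only [mul_assoc]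
    rw [Finset.sum_congr rfl h1, Finset.sum_add_distrib]
    rw [Finset.sum_range_succ' (fun k => ι (coef δ f (n + 1) k) * D ^ k) (n + 1)]
    have h2 : ∀ k ∈ Finset.range (n + 1), ι (coef δ f (n + 1) (k + 1)) * D ^ (k + 1) =
        ι (f * δ (coef δ f n (k + 1))) * D ^ (k + 1) + ι (f * coef δ f n k) * D ^ (k + 1) := by
      intro k _
      rw [coef_succ_succ, map_add, add_mul]
    rw [Finset.sum_congr rfl h2, Finset.sum_add_distrib]
    have h3 : ∑ k ∈ Finset.range (n + 1), ι (f * δ (coef δ f n k)) * D ^ k =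
        ∑ k ∈ Finset.range (n + 1), ι (f * δ (coef δ f n (k + 1))) * D ^ (k + 1) +
          ι (coef δ f (n + 1) 0) * D ^ 0 := by
      rw [coef_succ_zero]
      rw [← Finset.sum_range_succ' (fun k => ι (f * δ (coef δ f n k)) * D ^ k) (n + 1)]
      rw [Finset.sum_range_succ _ (n + 1), coef_eq_zero_of_lt δ f n (n + 1) (by omega)]
      simp
    rw [h3]
    abel

/-- the `p`-th power when the middle coefficients vanish -/
theorem pow_prime_expansion (ι : B →+* R) (δ : B →+ B) (f : B) (D : R)
    (hD : ∀ b, D * ι b = ι b * D + ι (δ b)) (h1 : δ 1 = 0) (p : ℕ) (hp : 2 ≤ p)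
    (hmid : ∀ k, 2 ≤ k → k < p → coef δ f p k = 0) :
    (ι f * D) ^ p = ι (f ^ p) * D ^ p + ι (coef δ f p 1) * D := by
  rw [expansion ι δ f D hD p]
  rw [Finset.sum_eq_add (p) 1 (by omega)]
  · rw [coef_self, pow_one]
  · intro k hk hne
    rw [Finset.mem_range] at hk
    rcases Nat.eq_zero_or_pos k with rfl | hk0
    · rw [coef_zero_right δ f h1 p (by omega)]; simp
    · rw [hmid k (by omega) (by omega)]; simp
  · intro h; exact absurd (Finset.mem_range.mpr (by omega)) h
  · intro h; exact absurd (Finset.mem_range.mpr (by omega)) h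

end Groth.Agent.Lib.Helper6.PCurv
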