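import Mathlib
import Groth.Agent.Lib.Helper6.PCurv.PCa

set_option autoImplicit false
set_option linter.unusedSectionVars false
set_option linter.unusedVariables false
set_option linter.unusedSimpArgs false
set_option linter.style.haveILetI false
set_option maxHeartbeats 400000

/-!
# Iterated Leibniz rule, `p`-th iterates of derivations in characteristic `p`, and the vanishing of
the middle coefficients of `(f δ)^p`
-/

namespace Groth.Agent.Lib.Helper6.PCurv

open Polynomial

section Leibniz

variable {B : Type*} [CommRing B] (δ : B →+ B) (hδ : ∀ a b, δ (a * b) = a * δ b + b * δ a)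

include hδ in
lemma iterate_leibniz (n : ℕ) (a b : B) :
    δ^[n] (a * b) = ∑ i ∈ Finset.range (n + 1), (n.choose i) • (δ^[i] a * δ^[n - i] b) := by
  have hs : ∀ (m : ℕ) (x : B), δ (δ^[m] x) = δ^[m + 1] x :=
    fun m x => (Function.iterate_succ_apply' δ m x).symm
  induction n with
  | zero => simp
  | succ n ih =>
    rw [Function.iterate_succ_apply', ih, map_sum]
    have h1 : ∀ i ∈ Finset.range (n + 1), δ (n.choose i • (δ^[i] a * δ^[n - i] b)) =
        n.choose i • (δ^[i + 1] a * δ^[n - i] b) +
          n.choose i • (δ^[i] a * δ^[n + 1 - i] b) := by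
      intro i hi
      rw [Finset.mem_range] at hi
      rw [map_nsmul, hδ, hs, hs, show n - i + 1 = n + 1 - i by omega, smul_add, add_comm,
        mul_comm (δ^[n - i] b)]
    rw [Finset.sum_congr rfl h1, Finset.sum_add_distrib]
    rw [Finset.sum_range_succ' (fun i => (n + 1).choose i • (δ^[i] a * δ^[n + 1 - i] b)) (n + 1)]
    have h2 : ∀ i ∈ Finset.range (n + 1),
        (n + 1).choose (i + 1) • (δ^[i + 1] a * δ^[n + 1 - (i + 1)] b) =
        n.choose i • (δ^[i + 1] a * δ^[n - i] b) +
          n.choose (i + 1) • (δ^[i + 1] a * δ^[n - i] b) := by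
      intro i hi
      rw [Nat.choose_succ_succ, add_smul, show n + 1 - (i + 1) = n - i by omega]
    rw [Finset.sum_congr rfl h2, Finset.sum_add_distrib]
    have h3 : ∑ i ∈ Finset.range (n + 1), n.choose i • (δ^[i] a * δ^[n + 1 - i] b) =
        ∑ i ∈ Finset.range (n + 1), n.choose (i + 1) • (δ^[i + 1] a * δ^[n - i] b) +
          (n + 1).choose 0 • (δ^[0] a * δ^[n + 1 - 0] b) := by
      rw [Finset.sum_range_succ' (fun i => n.choose i • (δ^[i] a * δ^[n + 1 - i] b)) n]
      rw [Finset.sum_range_succ (fun i => n.choose (i + 1) • (δ^[i + 1] a * δ^[n - i] b)) n]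
      rw [Nat.choose_succ_self, zero_smul, add_zero, Nat.choose_zero_right, Nat.choose_zero_right]
      congr 1
      apply Finset.sum_congr rfl
      intro i hi
      rw [Finset.mem_range] at hi
      rw [show n + 1 - (i + 1) = n - i by omega]
    rw [h3]
    abel

include hδ in
lemma iterate_prime_leibniz (p : ℕ) [hp : Fact p.Prime] [CharP B p] (a b : B) :
    δ^[p] (a * b) = a * δ^[p] b + b * δ^[p] a := by
  rw [iterate_leibniz δ hδ p a b]
  rw [Finset.sum_eq_add 0 p hp.out.pos.ne]
  · simp [mul_comm]
  · intro i hi hne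
    rw [Finset.mem_range] at hi
    have h1 : p ∣ p.choose i := hp.out.dvd_choose_self hne.1 (by omega)
    rw [nsmul_eq_mul, (CharP.cast_eq_zero_iff B p _).mpr h1, zero_mul]
  · intro h; exact absurd (Finset.mem_range.mpr (by omega)) h
  · intro h; exact absurd (Finset.mem_range.mpr (by omega)) h

end Leibniz

section IterDer

variable {A : Type*} {B : Type*} [CommRing A] [CommRing B] [Algebra A B]

/-- the `p`-th iterate of a derivation in characteristic `p` -/
noncomputable def iterDer (p : ℕ) [Fact p.Prime] [CharP B p] (D : Derivation A B B) :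
    Derivation A B B :=
  Derivation.mk' ((D : B →ₗ[A] B) ^ p) (by
    intro a b
    rw [Module.End.pow_apply, Module.End.pow_apply, Module.End.pow_apply]
    have := iterate_prime_leibniz (D : B →ₗ[A] B).toAddMonoidHom
      (by intro a b; simp [Derivation.leibniz]) p a b
    simpa using this)

lemma iterDer_apply (p : ℕ) [Fact p.Prime] [CharP B p] (D : Derivation A B B) (b : B) :
    iterDer p D b = (⇑D)^[p] b := by
  change ((D : B →ₗ[A] B) ^ p) b = _
  rw [Module.End.pow_apply]
  rfl

end IterDer

section Trick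

variable {B : Type*} [CommRing B] (δ : B →+ B) (hδ : ∀ a b, δ (a * b) = a * δ b + b * δ a)

/-- `δ` as a `ℤ`-derivation -/
def toDer : Derivation ℤ B B :=
  Derivation.mk' δ.toIntLinearMap (by intro a b; simp [hδ])

lemma toDer_apply (b : B) : toDer δ hδ b = δ b := rfl

/-- the derivation of `B[X]` extending `δ` with `X ↦ 1` -/
noncomputable def polyDer : Derivation ℤ B[X] B[X] :=
  PolynomialModule.equivPolynomialSelf.compDer (toDer δ hδ).mapCoeffs +
    (Polynomial.derivative' : Derivation B B[X] B[X]).restrictScalars ℤ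

lemma polyDer_C (b : B) : polyDer δ hδ (C b) = C (δ b) := by
  simp [polyDer, toDer_apply]

lemma polyDer_X : polyDer δ hδ (X : B[X]) = 1 := by
  simp [polyDer]

lemma polyDer_natCast_mul_X_pow (m j : ℕ) :
    polyDer δ hδ (C (m : B) * X ^ j) = C ((m * j : ℕ) : B) * X ^ (j - 1) := by
  rw [Derivation.leibniz, Derivation.leibniz_pow, polyDer_X, polyDer_C]
  have : δ (m : B) = 0 := (toDer δ hδ).map_natCast m
  rw [this]
  simp only [map_zero, smul_zero, add_zero, smul_eq_mul, nsmul_eq_mul, mul_one, Nat.cast_mul,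
    map_mul, map_natCast]
  ring_nf

lemma polyDer_iterate_X_pow (k : ℕ) : ∀ i : ℕ,
    (⇑(polyDer δ hδ))^[i] (X ^ k : B[X]) = C ((k.descFactorial i : ℕ) : B) * X ^ (k - i) := by
  intro i
  induction i with
  | zero => simp
  | succ i ih =>
    rw [Function.iterate_succ_apply', ih, polyDer_natCast_mul_X_pow, Nat.descFactorial_succ,
      mul_comm (k - i), show k - i - 1 = k - (i + 1) by omega]

include hδ in
/-- vanishing of the middle coefficients -/
theorem coef_mid_eq_zero (p : ℕ) [hp : Fact p.Prime] [CharP B p] (f : B) (k : ℕ) (h2 : 2 ≤ k)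
    (hk : k < p) : coef δ f p k = 0 := by
  -- the operator ring
  let R := Module.End ℤ B[X]
  let ι : B →+* R := (Module.toModuleEnd ℤ (S := B[X]) B[X]).comp C
  have hι : ∀ (b : B) (q : B[X]), ι b q = C b * q := fun b q => rfl
  let D : R := (polyDer δ hδ : B[X] →ₗ[ℤ] B[X])
  have hDapp : ∀ q : B[X], D q = polyDer δ hδ q := fun q => rfl
  have hD : ∀ b, D * ι b = ι b * D + ι (δ b) := by
    intro b
    ext q
    rw [Module.End.mul_apply, LinearMap.add_apply, Module.End.mul_apply, hι, hι, hι, hDapp, hDapp,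
      Derivation.leibniz, polyDer_C]
    simp only [smul_eq_mul]
    ring_nf
  have hexp := expansion ι δ f D hD p
  -- the derivation `T = f D`
  let T : Derivation ℤ B[X] B[X] := (C f : B[X]) • polyDer δ hδ
  have hT : ∀ q : B[X], (ι f * D) q = T q := fun q => rfl
  have hTfun : ⇑(ι f * D) = ⇑T := funext hT
  have hTp : ∀ a b : B[X], (⇑T)^[p] (a * b) = a * (⇑T)^[p] b + b * (⇑T)^[p] a := by
    intro a b
    have := iterate_prime_leibniz (T : B[X] →ₗ[ℤ] B[X]).toAddMonoidHom
      (by intro a b; simp [Derivation.leibniz]) p a b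
    simpa using this
  -- `T^[p]` as a derivation
  let Tp : Derivation ℤ B[X] B[X] :=
    Derivation.mk' ((T : B[X] →ₗ[ℤ] B[X]) ^ p) (by
      intro a b
      rw [Module.End.pow_apply, Module.End.pow_apply, Module.End.pow_apply]
      simpa using hTp a b)
  have hTpapp : ∀ q : B[X], Tp q = (⇑T)^[p] q := by
    intro q
    change ((T : B[X] →ₗ[ℤ] B[X]) ^ p) q = _
    rw [Module.End.pow_apply]
    rfl
  -- evaluate at `X^k`
  have h1 : ((ι f * D) ^ p) (X ^ k : B[X]) = Tp (X ^ k) := by
    rw [Module.End.pow_apply, hTfun, hTpapp]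
  have h2' : (Tp (X ^ k : B[X])).coeff 0 = 0 := by
    rw [Derivation.leibniz_pow]
    obtain ⟨j, rfl⟩ : ∃ j, k = j + 2 := ⟨k - 2, by omega⟩
    simp only [smul_eq_mul, nsmul_eq_mul, show j + 2 - 1 = j + 1 by omega, pow_succ]
    rw [Polynomial.mul_coeff_zero, Polynomial.mul_coeff_zero, Polynomial.mul_coeff_zero,
      Polynomial.coeff_X_zero]
    simp
  have h3 : (((ι f * D) ^ p) (X ^ k : B[X])).coeff 0 = coef δ f p k * ((k.factorial : ℕ) : B) := by
    rw [hexp, LinearMap.sum_apply, Polynomial.finsetSum_coeff]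
    rw [Finset.sum_eq_single k]
    · rw [Module.End.mul_apply, hι, Module.End.pow_apply]
      have : (⇑D)^[k] (X ^ k : B[X]) = (⇑(polyDer δ hδ))^[k] (X ^ k) := rfl
      rw [this, polyDer_iterate_X_pow, Nat.descFactorial_self, Nat.sub_self, pow_zero, mul_one,
        ← map_mul, Polynomial.coeff_C_zero]
    · intro i hi hne
      rw [Module.End.mul_apply, hι, Module.End.pow_apply]
      have : (⇑D)^[i] (X ^ k : B[X]) = (⇑(polyDer δ hδ))^[i] (X ^ k) := rfl
      rw [this, polyDer_iterate_X_pow]
      rcases lt_or_gt_of_ne hne with hlt | hgt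
      · -- i < k : positive power of X
        rw [← mul_assoc, ← map_mul, Polynomial.coeff_C_mul, Polynomial.coeff_X_pow,
          if_neg (by omega), mul_zero]
      · rw [Nat.descFactorial_of_lt hgt]
        simp
    · intro h; exact absurd (Finset.mem_range.mpr (by omega)) h
  have h4 : coef δ f p k * ((k.factorial : ℕ) : B) = 0 := by
    rw [← h3, h1, h2']
  have hunit : IsUnit (((k.factorial : ℕ) : B)) := by
    have hcop : Nat.Coprime k.factorial p := by
      rw [Nat.coprime_comm]
      exact (Nat.Prime.coprime_iff_not_dvd hp.out).mpr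
        (fun h => by
          have := (hp.out.dvd_factorial).mp h
          omega)
    have h5 : IsUnit ((k.factorial : ℕ) : ZMod p) := (ZMod.isUnit_iff_coprime _ _).mpr hcop
    have h6 := h5.map (ZMod.castHom (dvd_refl p) B)
    simpa using h6
  exact (hunit.mul_left_eq_zero).mp h4

end Trick

end Groth.Agent.Lib.Helper6.PCurv
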