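import Mathlib
import Groth.Prelude.Def_Conn
import Groth.Agent.Lib.Helper6.PCurv.PCb

set_option autoImplicit false
set_option linter.unusedSectionVars false
set_option linter.unusedVariables false
set_option linter.unusedSimpArgs false
set_option linter.style.haveILetI false
set_option maxHeartbeats 400000

/-!
# `p`-curvature: vanishing on a generator of the derivations suffices (rank one differentials)
-/

open TensorProduct

namespace Groth.Agent.Lib.Helper6.PCurv

universe v u

variable {A : Type v} {B M : Type u} [CommRing A] [CommRing B] [Algebra A B]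
  [AddCommGroup M] [Module B M] [Module A M] [IsScalarTower A B M]
  (nabla : M →ₗ[A] M ⊗[B] Ω[B⁄A])

lemma alongDer_leibniz (hc : Conn.IsConn (KaehlerDifferential.D A B) nabla)
    (θ : Derivation A B B) (b : B) (m : M) :
    Conn.alongDer nabla θ (b • m) = b • Conn.alongDer nabla θ m + θ b • m := by
  unfold Conn.alongDer
  rw [Conn.along_apply, Conn.along_apply, hc b m, map_add, map_add, map_smul, map_smul,
    TensorProduct.map_tmul, TensorProduct.rid_tmul, LinearMap.id_apply,
    Derivation.liftKaehlerDifferential_comp_D]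

lemma lift_smul_add (g h : B) (θ₁ θ₂ : Derivation A B B) :
    (g • θ₁ + h • θ₂).liftKaehlerDifferential =
      g • θ₁.liftKaehlerDifferential + h • θ₂.liftKaehlerDifferential := by
  apply Derivation.liftKaehlerDifferential_unique
  ext b
  simp

lemma alongDer_smul_add (g h : B) (θ₁ θ₂ : Derivation A B B) (m : M) :
    Conn.alongDer nabla (g • θ₁ + h • θ₂) m =
      g • Conn.alongDer nabla θ₁ m + h • Conn.alongDer nabla θ₂ m := by
  unfold Conn.alongDer
  rw [Conn.along_apply, Conn.along_apply, Conn.along_apply, lift_smul_add,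
    TensorProduct.map_add_right, TensorProduct.map_smul_right, TensorProduct.map_smul_right,
    LinearMap.add_apply, LinearMap.smul_apply, LinearMap.smul_apply, map_add, map_smul, map_smul]

lemma alongDer_smul (g : B) (θ₁ : Derivation A B B) (m : M) :
    Conn.alongDer nabla (g • θ₁) m = g • Conn.alongDer nabla θ₁ m := by
  have := alongDer_smul_add nabla g 0 θ₁ θ₁ m
  simpa using this

/-- every derivation is a multiple of the dual generator -/
lemma der_eq_smul (bΩ : Module.Basis (Fin 1) B (KaehlerDifferential A B)) (θ₀ : Derivation A B B)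
    (hθ₀ : θ₀.liftKaehlerDifferential (bΩ 0) = 1) (θ : Derivation A B B) :
    θ = θ.liftKaehlerDifferential (bΩ 0) • θ₀ := by
  have h1 : θ.liftKaehlerDifferential =
      (θ.liftKaehlerDifferential (bΩ 0) • θ₀).liftKaehlerDifferential := by
    apply bΩ.ext
    intro i
    have hi : i = 0 := Subsingleton.elim _ _
    subst hi
    have := lift_smul_add (θ.liftKaehlerDifferential (bΩ 0)) 0 θ₀ θ₀
    simp only [zero_smul, add_zero] at this
    rw [this, LinearMap.smul_apply, hθ₀, smul_eq_mul, mul_one]
  ext b
  have h2 := LinearMap.congr_fun h1 (KaehlerDifferential.D A B b)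
  rw [Derivation.liftKaehlerDifferential_comp_D, Derivation.liftKaehlerDifferential_comp_D] at h2
  exact h2

theorem main (p : ℕ) [hp : Fact p.Prime] [CharP B p]
    (bΩ : Module.Basis (Fin 1) B (KaehlerDifferential A B)) (θ₀ : Derivation A B B)
    (hθ₀ : θ₀.liftKaehlerDifferential (bΩ 0) = 1)
    (hc : Conn.IsConn (KaehlerDifferential.D A B) nabla) :
    (∀ θ θp : Derivation A B B, Conn.IsIterPow θ p θp → Conn.pCurv p nabla θ θp = 0) ↔
      (∀ θp : Derivation A B B, Conn.IsIterPow θ₀ p θp → Conn.pCurv p nabla θ₀ θp = 0) := by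
  constructor
  · intro h θp hθp
    exact h θ₀ θp hθp
  · intro h θ θp hθp
    -- notation
    set f : B := θ.liftKaehlerDifferential (bΩ 0) with hf
    have hθ : θ = f • θ₀ := der_eq_smul bΩ θ₀ hθ₀ θ
    let δ : B →+ B := (θ₀ : B →ₗ[A] B).toAddMonoidHom
    have hδapp : ∀ b, δ b = θ₀ b := fun b => rfl
    have hδ : ∀ a b, δ (a * b) = a * δ b + b * δ a := by
      intro a b
      simp only [hδapp, Derivation.leibniz, smul_eq_mul]
    have hδ1 : δ 1 = 0 := by rw [hδapp]; exact θ₀.map_one_eq_zero
    have hp2 : 2 ≤ p := hp.out.two_le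
    have hmid : ∀ k, 2 ≤ k → k < p → coef δ f p k = 0 :=
      fun k h2 hk => coef_mid_eq_zero δ hδ p f k h2 hk
    set c₁ : B := coef δ f p 1 with hc₁
    -- the operator ring on `M`
    let ι : B →+* Module.End A M := Module.toModuleEnd A (S := B) M
    have hι : ∀ (b : B) (m : M), ι b m = b • m := fun b m => rfl
    set D₀ : Module.End A M := Conn.alongDer nabla θ₀ with hD₀
    have hD : ∀ b, D₀ * ι b = ι b * D₀ + ι (δ b) := by
      intro b
      ext m
      rw [Module.End.mul_apply, LinearMap.add_apply, Module.End.mul_apply, hι, hι, hι, hD₀,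
        alongDer_leibniz nabla hc, hδapp]
    have hexpM := pow_prime_expansion ι δ f D₀ hD hδ1 p hp2 hmid
    -- the operator ring on `B`
    let ι' : B →+* Module.End A B := Module.toModuleEnd A (S := B) B
    have hι' : ∀ (b x : B), ι' b x = b * x := fun b x => rfl
    let D' : Module.End A B := (θ₀ : B →ₗ[A] B)
    have hD'app : ∀ x, D' x = θ₀ x := fun x => rfl
    have hD' : ∀ b, D' * ι' b = ι' b * D' + ι' (δ b) := by
      intro b
      ext x
      rw [Module.End.mul_apply, LinearMap.add_apply, Module.End.mul_apply, hι', hι', hι', hD'app,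
        hD'app, Derivation.leibniz, hδapp]
      simp only [smul_eq_mul]
      ring_nf
    have hexpB := pow_prime_expansion ι' δ f D' hD' hδ1 p hp2 hmid
    -- the `p`-th iterate of `θ₀`
    have hθ₀p : Conn.IsIterPow θ₀ p (iterDer p θ₀) := fun b => iterDer_apply p θ₀ b
    have h0 := h (iterDer p θ₀) hθ₀p
    unfold Conn.pCurv at h0
    rw [sub_eq_zero] at h0
    -- `θp` in terms of `θ₀`
    have hθfun : ⇑(ι' f * D') = ⇑θ := by
      funext x
      rw [Module.End.mul_apply, hι', hD'app]
      conv_rhs => rw [hθ]
      rfl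
    have hθp : θp = f ^ p • iterDer p θ₀ + c₁ • θ₀ := by
      ext b
      rw [hθp b, ← hθfun, ← Module.End.pow_apply, hexpB]
      rw [LinearMap.add_apply, Module.End.mul_apply, Module.End.mul_apply, hι', hι',
        Module.End.pow_apply, hD'app]
      rw [Derivation.add_apply, Derivation.smul_apply, Derivation.smul_apply, iterDer_apply]
      rfl
    -- conclude
    unfold Conn.pCurv
    rw [sub_eq_zero]
    have hθM : Conn.alongDer nabla θ = ι f * D₀ := by
      ext m
      rw [Module.End.mul_apply, hι, hD₀]
      conv_lhs => rw [hθ]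
      exact alongDer_smul nabla f θ₀ m
    rw [hθM, hexpM, hθp]
    ext m
    rw [alongDer_smul_add, LinearMap.add_apply, Module.End.mul_apply, Module.End.mul_apply, hι, hι,
      ← h0]

end Groth.Agent.Lib.Helper6.PCurv
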